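import Cfsg.Agent.H439.Der.Tools
import Cfsg.Agent.H257.El.EngA

/-!
# S3500, sporadic rows: tools (helper183)

* `not_SC_num` : `v ∥ |T|`, `o * ((|T| / v) % v) < v - 1`, `|Out T| ≤ o` : not `SC T v`
* `false_of_pair` : a proper subgroup `R` of `T` is not divisible by both `r` and `s` (`chkPair`)
* `false_of_na` : the same for two primes not adjacent to `2`, if `R` has an element of order `4`
-/

set_option autoImplicit false

namespace Cfsg.Agent.H183.Der

open Subgroup
open Cfsg.Agent.OrdDiv Cfsg.Agent.H257.El Cfsg.Agent.H439.Der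

universe u

theorem not_SC_num {T : Type*} [Group T] [Finite T] {n v o : ℕ} (hn : Nat.card T = n) (hv : v.Prime)
    (hd : v ∣ n) (h2 : ¬ v ^ 2 ∣ n) (hO : Nat.card (Cfsg.Out T) ≤ o) (h : o * ((n / v) % v) < v - 1) : ¬ SC T v := by
  intro hs
  have hfv := Fact.mk hv
  obtain ⟨x, hx⟩ := exists_prime_orderOf_dvd_card' (G := T) v (by rw [hn]; exact hd)
  have hCp : Nat.card (centralizer ({x} : Set T)) = v := by
    have h1 := Nat.eq_prime_pow_of_unique_prime_dvd (p := v) (n := Nat.card (centralizer ({x} : Set T)))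
      Nat.card_pos.ne' (by
        intro w hw hwC
        by_contra hwv
        have := Fact.mk hw
        obtain ⟨⟨y, hyC⟩, hy⟩ := exists_prime_orderOf_dvd_card' (G := centralizer ({x} : Set T)) w hwC
        rw [Subgroup.orderOf_mk] at hy
        exact not_SC_of_commute hv hw (Ne.symm hwv) hx hy (mem_centralizer_singleton_iff.1 hyC).symm hs)
    generalize (Nat.card (centralizer ({x} : Set T))).primeFactorsList.length = k at h1
    have h3 : v ∣ Nat.card (centralizer ({x} : Set T)) := by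
      rw [← hx]
      exact Subgroup.orderOf_dvd_natCard _ (mem_centralizer_singleton_iff.2 rfl)
    have h4 : Nat.card (centralizer ({x} : Set T)) ∣ n := by
      rw [← hn]
      exact Subgroup.card_subgroup_dvd_card _
    have h5 : k ≠ 0 := by
      rintro rfl
      rw [h1, pow_zero] at h3
      exact hv.one_lt.ne' (Nat.dvd_one.1 h3)
    have h6 : k < 2 := by
      by_contra hk
      exact h2 ((pow_dvd_pow v (by omega)).trans (h1 ▸ h4))
    have h7 : k = 1 := by omega
    rw [h1, h7, pow_one]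
  have hN := card_conjPow_mul x
  rw [hCp] at hN
  have hP : Nat.card (zpowers x) = v ^ (Nat.card T).factorization v := by
    rw [Nat.card_zpowers, hx, hn]
    have h1 : n.factorization v = 1 := by
      have hn0 : n ≠ 0 := by rw [← hn]; exact Nat.card_pos.ne'
      apply le_antisymm
      · by_contra hc
        exact h2 ((hv.pow_dvd_iff_le_factorization hn0).2 (by omega))
      · exact (hv.dvd_iff_one_le_factorization hn0).1 hd
    rw [h1, pow_one]
  have h3 := card_sylow_modEq_one v T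
  rw [(Sylow.ofCard (zpowers x) hP).card_eq_index_normalizer] at h3
  have h4 : ((Sylow.ofCard (zpowers x) hP : Sylow v T) : Set T) = (zpowers x : Set T) := rfl
  rw [h4] at h3
  have h5 := Subgroup.card_mul_index (normalizer (zpowers x : Set T))
  rw [hn, ← hN] at h5
  set k := Nat.card (conjPow x) with hk
  set i := (normalizer (zpowers x : Set T)).index with hi
  have h6 : n / v = k * i := by
    rw [← h5]
    rw [show k * v * i = v * (k * i) by ring, Nat.mul_div_cancel_left _ hv.pos]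
  have h7 : (n / v) % v = k % v := by
    rw [h6]
    have : k * i ≡ k * 1 [MOD v] := h3.mul_left k
    rw [mul_one] at this
    exact this
  have h8 : k < v := by
    have h9 : conjPow x ⊆ (zpowers x : Set T) \ {1} := by
      rintro y ⟨hy, g, rfl⟩
      refine ⟨hy, fun h1 => ?_⟩
      rw [Set.mem_singleton_iff] at h1
      have h10 : x = 1 := by
        have := congrArg (fun w => g⁻¹ * w * g) h1
        simpa [mul_assoc] using this
      rw [h10, orderOf_one] at hx
      exact hv.one_lt.ne hx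
    have h10 : k ≤ Nat.card ((zpowers x : Set T) \ {1} : Set T) :=
      Nat.card_mono (Set.toFinite _) h9
    have h11 : Nat.card ((zpowers x : Set T) \ {1} : Set T) < Nat.card (zpowers x : Set T) := by
      rw [Nat.card_coe_set_eq, Nat.card_coe_set_eq]
      exact Set.ncard_lt_ncard ⟨Set.sdiff_subset, fun hc => (hc (one_mem (zpowers x))).2 rfl⟩ (Set.toFinite _)
    have h12 : Nat.card (zpowers x : Set T) = v := by
      rw [← hx]
      exact Nat.card_zpowers x
    omega
  rw [h7, Nat.mod_eq_of_lt h8] at h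
  have h9 := hs.sub_one_le hv hx
  rw [← hk] at h9
  have h10 := Nat.mul_le_mul_right k hO
  omega

section eng

variable {T : Type u} [Group T] [Finite T] {n : ℕ} {l : List (ℕ × ℕ)} {r : ℕ} {R : Subgroup T}

omit [Finite T] in
theorem dvd_n (hn : Nat.card T = n) : Nat.card R ∣ n := by
  rw [← hn]
  exact Subgroup.card_subgroup_dvd_card R

theorem card_lt (hn : Nat.card T = n) (hR : R ≠ ⊤) : Nat.card R < n := by
  rw [← hn]
  refine lt_of_le_of_ne (Nat.le_of_dvd Nat.card_pos (Subgroup.card_subgroup_dvd_card R)) fun h => hR ?_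
  exact Subgroup.eq_top_of_card_eq R h

omit [Finite T] in
theorem noR {k : ℕ} (hno : ∀ z : T, orderOf z ≠ k) (z : R) : orderOf z ≠ k := by
  rw [← Subgroup.orderOf_coe]
  exact hno z

/-- a non-commutative `N` is in the list -/
theorem exists_surv (tab : OrderTable.{u}) (known : Known.{u}) (hn : Nat.card T = n) (hv : OrdDiv.valid l n = true)
    (hR : R ≠ ⊤) {O : Subgroup R} [O.Normal] {N : Subgroup (R ⧸ O)} (h : Top R r O N)
    (hna : ¬ ∀ a b : N, a * b = b * a) (ss : List ℕ)
    (hss : ∀ s ∈ ss, s ∣ Nat.card N) : ∃ g ∈ surv n l r ss, Real g N ∧ Nat.card N = ordN g := by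
  have hsim := h.simple
  have hNR : Nat.card N ∣ Nat.card R := by
    refine (Subgroup.card_subgroup_dvd_card N).trans ?_
    rw [← card_quot_mul O]
    exact dvd_mul_right _ _
  have hNn : Nat.card N ∣ n := hNR.trans (dvd_n hn)
  obtain ⟨g, hg, hr, hc⟩ := exists_good tab (known N) hna hv hNn
  refine ⟨g, List.mem_filter.2 ⟨hg, ?_⟩, hr, hc⟩
  unfold okG
  rw [Bool.and_eq_true, Bool.and_eq_true, List.all_eq_true]
  refine ⟨⟨?_, ?_⟩, fun s hs => ?_⟩
  · rw [← hc, Nat.mod_eq_zero_of_dvd h.dvd]; rfl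
  · rw [← hc]
    have h1 : Nat.card N ≤ Nat.card R := Nat.le_of_dvd Nat.card_pos hNR
    have h2 := card_lt hn hR
    have h3 : Nat.card N ≠ n := by omega
    simpa using h3
  · rw [← hc, Nat.mod_eq_zero_of_dvd (hss s hs)]; rfl

/-- **one pair of non-adjacent primes** -/
theorem false_of_pair (tab : OrderTable.{u}) (known : Known.{u}) {s : ℕ}
    (hn : Nat.card T = n) (hr : r.Prime) (hs : s.Prime) (hno : ∀ z : T, orderOf z ≠ r * s)
    (hchk : chkPair n l r s = true) (hR : R ≠ ⊤) (hrR : r ∣ Nat.card R) (hsR : s ∣ Nat.card R) : False := by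
  unfold chkPair at hchk
  rw [Bool.and_eq_true, Bool.and_eq_true, Bool.and_eq_true, Bool.and_eq_true] at hchk
  obtain ⟨⟨⟨⟨h1, h2⟩, h3⟩, h4⟩, h5⟩ := hchk
  have hsq : ¬ r ^ 2 ∣ Nat.card R := by
    intro h
    rw [Nat.mod_eq_zero_of_dvd (h.trans (dvd_n hn))] at h3
    exact absurd h3 (by decide)
  obtain ⟨O, hO, N, h⟩ := H257.El.exists_top hr hrR hsq
  unfold okPair at h4
  rw [Bool.and_eq_true, Bool.and_eq_true, Bool.and_eq_true] at h4
  obtain ⟨⟨⟨k1, k2⟩, k3⟩, k4⟩ := h4
  have hrs : r ≠ s := by simpa using k1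
  have k2' : ¬ s ∣ r - 1 := by
    intro hd
    rw [Nat.mod_eq_zero_of_dvd hd] at k2
    exact absurd k2 (by decide)
  have h6 : s ∣ Nat.card N :=
    h.dvd_simple hs hrs (noR hno) (fun _ hb hd => okPow_spec h1 k4 hs hb (hd.trans (dvd_n hn))) k2' hsR
  obtain ⟨g, hg, -, -⟩ := exists_surv tab known hn h1 hR h (SitA.not_comm_of_dvd h hs hrs h6) [s] (by
    intro t ht
    rw [List.mem_singleton] at ht
    rw [ht]
    exact h6)
  rw [List.isEmpty_iff] at h5
  rw [h5] at hg
  simp at hg

/-- the `s`-elements of `R`, if `N` is commutative -/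
theorem orderOf_dvd_sub_one {G : Type*} [Group G] [Finite G] {O : Subgroup G} [O.Normal] {N : Subgroup (G ⧸ O)} {s k : ℕ}
    (h : Top G r O N) (hc : ∀ a b : N, a * b = b * a) (hs : s.Prime) (hrs : r ≠ s)
    (hsO : ¬ s ∣ Nat.card O) {t : G} (ht : orderOf t = s ^ k) : s ^ k ∣ r - 1 := by
  have hN := h.normal
  have hs' : Fact s.Prime := ⟨hs⟩
  have hr' : Fact r.Prime := ⟨h.prime⟩
  have hNr := h.card_of_comm hc
  have hNc : IsCyclic N := isCyclic_of_prime_card hNr
  let ψ : G →* MulAut N := (MulAut.conjNormal (H := N)).comp (QuotientGroup.mk' O)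
  have hcard : Nat.card (MulAut N) = r - 1 := by
    have e := IsCyclic.mulAutMulEquiv N
    rw [hNr] at e
    rw [Nat.card_congr e.toEquiv, Nat.card_eq_fintype_card, ZMod.card_units_eq_totient, Nat.totient_prime h.prime]
  rw [← hcard, ← ht]
  have h0 : orderOf (ψ t) = orderOf t := by
    apply Nat.dvd_antisymm (orderOf_map_dvd ψ t)
    apply orderOf_dvd_of_pow_eq_one
    have h1 : ψ (t ^ orderOf (ψ t)) = 1 := by rw [map_pow, pow_orderOf_eq_one]
    set w := t ^ orderOf (ψ t) with hw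
    have h2 : QuotientGroup.mk' O w ∈ centralizer (N : Set (G ⧸ O)) := by
      rw [mem_centralizer_iff]
      intro m hm
      have h2 : (ψ w) ⟨m, hm⟩ = ⟨m, hm⟩ := by rw [h1]; rfl
      have h3 : QuotientGroup.mk' O w * m * (QuotientGroup.mk' O w)⁻¹ = m := congrArg Subtype.val h2
      calc m * QuotientGroup.mk' O w =
          (QuotientGroup.mk' O w * m * (QuotientGroup.mk' O w)⁻¹) * QuotientGroup.mk' O w := by rw [h3]
        _ = _ := by group
    rw [h.centralizer_eq hc] at h2
    have h3 : orderOf (QuotientGroup.mk' O w) ∣ r := by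
      rw [← hNr]
      exact Subgroup.orderOf_dvd_natCard _ h2
    have h4 : orderOf w ∣ s ^ k := by
      rw [← ht, hw]
      exact orderOf_pow_dvd _
    have h5 : orderOf (QuotientGroup.mk' O w) = 1 := by
      apply Nat.eq_one_of_dvd_coprimes _ h3 ((orderOf_map_dvd _ _).trans h4)
      exact Nat.Coprime.pow_right _ ((Nat.coprime_primes h.prime hs).2 hrs)
    have h6 : w ∈ O := (QuotientGroup.eq_one_iff _).1 (orderOf_eq_one_iff.1 h5)
    have h7 : orderOf w ∣ Nat.card O := Subgroup.orderOf_dvd_natCard _ h6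
    obtain ⟨j, hj, hjw⟩ := (Nat.dvd_prime_pow hs).1 h4
    rw [hjw] at h7
    have hj0 : j = 0 := by
      by_contra hj1
      exact hsO ((dvd_pow_self s hj1).trans h7)
    rw [hj0, pow_zero] at hjw
    exact orderOf_eq_one_iff.1 hjw
  rw [← h0]
  exact orderOf_dvd_natCard _

/-- **two primes not adjacent to 2, and an element of order 4** -/
theorem false_of_na (tab : OrderTable.{u}) (known : Known.{u}) {s : ℕ}
    (hn : Nat.card T = n) (hr : r.Prime) (hs : s.Prime) (hnor : ∀ z : T, orderOf z ≠ r * 2)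
    (hnos : ∀ z : T, orderOf z ≠ s * 2) (hchk : chkNA n l r s = true) (h4r : ¬ 4 ∣ r - 1) (hR : R ≠ ⊤)
    (hrR : r ∣ Nat.card R) (hsR : s ∣ Nat.card R) {t : T} (htR : t ∈ R) (ht : orderOf t = 4) : False := by
  unfold chkNA at hchk
  simp only [Bool.and_eq_true, List.all_eq_true] at hchk
  obtain ⟨⟨⟨⟨⟨⟨⟨⟨h1, h2⟩, h3⟩, h4⟩, h5⟩, h6⟩, h7⟩, h8⟩, h9⟩ := hchk
  have hsq : ¬ r ^ 2 ∣ Nat.card R := by
    intro h
    rw [Nat.mod_eq_zero_of_dvd (h.trans (dvd_n hn))] at h3
    exact absurd h3 (by decide)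
  have hsq' : ¬ s ^ 2 ∣ Nat.card R := by
    intro h
    rw [Nat.mod_eq_zero_of_dvd (h.trans (dvd_n hn))] at h5
    exact absurd h5 (by decide)
  obtain ⟨O, hO, N, h⟩ := H257.El.exists_top hr hrR hsq
  have hr2 : r ≠ 2 := by simpa using h6
  have hs2 : s ≠ 2 := by simpa using h7
  have h2O : ¬ 2 ∣ Nat.card O := h.not_dvd_core Nat.prime_two hr2 (noR hnor)
    fun _ hb hd => okPow_spec h1 h8 Nat.prime_two hb (hd.trans (dvd_n hn))
  have hna : ¬ ∀ a b : N, a * b = b * a := by
    intro hc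
    apply h4r
    have h10 : orderOf (⟨t, htR⟩ : R) = 2 ^ 2 := by
      rw [Subgroup.orderOf_mk, ht]
      norm_num
    exact orderOf_dvd_sub_one h hc Nat.prime_two hr2 h2O h10
  obtain ⟨g, hg, -, hgc⟩ := exists_surv tab known hn h1 hR h hna [] (by simp)
  obtain ⟨h10, h11⟩ := h9 g hg
  rw [List.any_eq_true] at h11
  obtain ⟨a, -, h12⟩ := h11
  simp only [Bool.and_eq_true] at h12
  obtain ⟨⟨⟨h13, h14⟩, h15⟩, h16⟩ := h12
  have h17 : s ∣ Nat.card N := by
    refine h.dvd_of_na hna hs hs2 (noR hnos) hsR hsq' (a := a)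
      (Nat.le_of_ble_eq_true h13) ?_ ?_ (by simpa using h16)
    · rw [hgc]
      exact Nat.dvd_of_mod_eq_zero (by simpa using h14)
    · rw [hgc]
      intro h
      rw [Nat.mod_eq_zero_of_dvd h] at h15
      exact absurd h15 (by decide)
  rw [hgc] at h17
  rw [Nat.mod_eq_zero_of_dvd h17] at h10
  exact absurd h10 (by decide)

/-- the check for a pair `r, s` and a prime `q` not adjacent to 2 -/
def chkPairNA (n : ℕ) (l : List (ℕ × ℕ)) (r s q : ℕ) : Bool :=
  OrdDiv.valid l n && (n % r ^ 2 != 0) && okPair n l r s && (n % q ^ 2 != 0) && (q != 2) &&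
    (surv n l r [s]).all fun g => (ordN g % q != 0) && (List.range 60).any fun a =>
      Nat.ble 1 a && (ordN g % 2 ^ a == 0) && (ordN g % 2 ^ (a + 1) != 0) && (2 ^ a % q != 1)

/-- **a pair of non-adjacent primes `r, s` and a prime `q` not adjacent to 2** -/
theorem false_of_pair_na (tab : OrderTable.{u}) (known : Known.{u}) {s q : ℕ}
    (hn : Nat.card T = n) (hr : r.Prime) (hs : s.Prime) (hq : q.Prime) (hno : ∀ z : T, orderOf z ≠ r * s)
    (hnoq : ∀ z : T, orderOf z ≠ q * 2) (hchk : chkPairNA n l r s q = true) (hR : R ≠ ⊤)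
    (hrR : r ∣ Nat.card R) (hsR : s ∣ Nat.card R) (hqR : q ∣ Nat.card R) : False := by
  unfold chkPairNA at hchk
  simp only [Bool.and_eq_true, List.all_eq_true] at hchk
  obtain ⟨⟨⟨⟨⟨h1, h3⟩, h4⟩, h5⟩, h7⟩, h9⟩ := hchk
  have hsq : ¬ r ^ 2 ∣ Nat.card R := by
    intro h
    rw [Nat.mod_eq_zero_of_dvd (h.trans (dvd_n hn))] at h3
    exact absurd h3 (by decide)
  have hsq' : ¬ q ^ 2 ∣ Nat.card R := by
    intro h
    rw [Nat.mod_eq_zero_of_dvd (h.trans (dvd_n hn))] at h5
    exact absurd h5 (by decide)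
  obtain ⟨O, hO, N, h⟩ := H257.El.exists_top hr hrR hsq
  have hq2 : q ≠ 2 := by simpa using h7
  unfold okPair at h4
  rw [Bool.and_eq_true, Bool.and_eq_true, Bool.and_eq_true] at h4
  obtain ⟨⟨⟨k1, k2⟩, k3⟩, k4⟩ := h4
  have hrs : r ≠ s := by simpa using k1
  have k2' : ¬ s ∣ r - 1 := by
    intro hd
    rw [Nat.mod_eq_zero_of_dvd hd] at k2
    exact absurd k2 (by decide)
  have h6 : s ∣ Nat.card N :=
    h.dvd_simple hs hrs (noR hno) (fun _ hb hd => okPow_spec h1 k4 hs hb (hd.trans (dvd_n hn))) k2' hsR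
  have hna := SitA.not_comm_of_dvd h hs hrs h6
  obtain ⟨g, hg, -, hgc⟩ := exists_surv tab known hn h1 hR h hna [s] (by
    intro t ht
    rw [List.mem_singleton] at ht
    rw [ht]
    exact h6)
  obtain ⟨h10, h11⟩ := h9 g hg
  rw [List.any_eq_true] at h11
  obtain ⟨a, -, h12⟩ := h11
  simp only [Bool.and_eq_true] at h12
  obtain ⟨⟨⟨h13, h14⟩, h15⟩, h16⟩ := h12
  have h17 : q ∣ Nat.card N := by
    refine h.dvd_of_na hna hq hq2 (noR hnoq) hqR hsq' (a := a)
      (Nat.le_of_ble_eq_true h13) ?_ ?_ (by simpa using h16)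
    · rw [hgc]
      exact Nat.dvd_of_mod_eq_zero (by simpa using h14)
    · rw [hgc]
      intro h
      rw [Nat.mod_eq_zero_of_dvd h] at h15
      exact absurd h15 (by decide)
  rw [hgc] at h17
  rw [Nat.mod_eq_zero_of_dvd h17] at h10
  exact absurd h10 (by decide)

/-- the numeric check for `not_SC_num` (`o = 1`) -/
def okSC (n v : ℕ) : Bool := (n % v == 0) && (n % v ^ 2 != 0) && Nat.blt ((n / v) % v) (v - 1)

theorem not_SC_of_okSC (hn : Nat.card T = n) {v : ℕ} (hv : v.Prime) (hO : Nat.card (Cfsg.Out T) = 1)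
    (h : okSC n v = true) : ¬ SC T v := by
  unfold okSC at h
  rw [Bool.and_eq_true, Bool.and_eq_true] at h
  obtain ⟨⟨h1, h2⟩, h3⟩ := h
  refine not_SC_num hn hv (Nat.dvd_of_mod_eq_zero (by simpa using h1)) ?_ hO.le ?_
  · intro h
    rw [Nat.mod_eq_zero_of_dvd h] at h2
    exact absurd h2 (by decide)
  · rw [one_mul]
    exact Nat.blt_eq.mp h3

/-- **the row from two primes not adjacent to 2 and elements of orders `4` and `4 k`** -/
theorem row_of_na (tab : OrderTable.{u}) (known : Known.{u}) {s : ℕ}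
    (hn : Nat.card T = n) (hr : r.Prime) (hs : s.Prime) (hnor : ∀ z : T, orderOf z ≠ r * 2)
    (hnos : ∀ z : T, orderOf z ≠ s * 2) (hchk : chkNA n l r s = true) (h4r : ¬ 4 ∣ r - 1)
    (hO : Nat.card (Cfsg.Out T) = 1) (h1 : okSC n r = true) (h2 : okSC n s = true) {k : ℕ} (hk : 1 < k) {t : T}
    (ht : orderOf t = 4 * k) : Row T := by
  intro M hM
  left
  have hMt : M ≠ ⊤ := hM.1
  by_cases hrM : r ∣ Nat.card M
  swap
  · exact Two.of_not_dvd hrM (not_SC_of_okSC hn hr hO h1)
  by_cases hsM : s ∣ Nat.card M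
  swap
  · exact Two.of_not_dvd hsM (not_SC_of_okSC hn hs hO h2)
  by_cases h4 : ∃ u ∈ M, orderOf u = 4
  · obtain ⟨u, huM, hu⟩ := h4
    exact (false_of_na tab known hn hr hs hnor hnos hchk h4r hMt hrM hsM huM hu).elim
  push Not at h4
  have hpow : ∀ u : T, orderOf u = 4 * k → orderOf (u ^ k) = 4 := by
    intro u hu
    rw [orderOf_pow_of_dvd (by omega) (by rw [hu]; exact dvd_mul_left _ _), hu, Nat.mul_div_cancel _ (by omega)]
  refine Two.of_orders (a := 4) (b := 4 * k) (by omega) (hpow t ht) ht h4 fun m hm hmk => ?_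
  exact h4 (m ^ k) (pow_mem hm k) (hpow m hmk)

/-- **the row from a pair of non-adjacent primes** -/
theorem row_of_pair (tab : OrderTable.{u}) (known : Known.{u}) {s : ℕ}
    (hn : Nat.card T = n) (hr : r.Prime) (hs : s.Prime) (hno : ∀ z : T, orderOf z ≠ r * s)
    (hchk : chkPair n l r s = true) (h1 : ¬ SC T r) (h2 : ¬ SC T s) : Row T := by
  intro M hM
  left
  have hMt : M ≠ ⊤ := hM.1
  by_cases hrM : r ∣ Nat.card M
  swap
  · exact Two.of_not_dvd hrM h1
  by_cases hsM : s ∣ Nat.card M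
  swap
  · exact Two.of_not_dvd hsM h2
  exact (false_of_pair tab known hn hr hs hno hchk hMt hrM hsM).elim

end eng

end Cfsg.Agent.H183.Der
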