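import Cfsg.Agent.H183.Der.Eng
import Cfsg.Agent.H478.SporBaby
import Cfsg.Agent.H94.Sp.AC
import Cfsg.Agent.S2084
import Cfsg.Agent.NotCT.Orders

/-!
# S3500, the row B (helper183)
-/

set_option autoImplicit false

namespace Cfsg.Agent.H183.Der

open Subgroup
open Cfsg.Agent.OrdDiv Cfsg.Agent.H257.El Cfsg.Agent.H439.Der

universe u

theorem row_b_of (tab : OrderTable.{0}) (known : Known.{0}) {T : Type u} [Group T] (h : Cfsg.Spor.IsoB T) :
    Row T := by
  obtain ⟨e⟩ := h
  refine Row.congr (T := Cfsg.Spor.BabyMonster) e.symm ?_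
  have hb : Cfsg.Spor.IsoB Cfsg.Spor.BabyMonster := ⟨MulEquiv.refl _⟩
  have hc : Nat.card Cfsg.Spor.BabyMonster = 4154781481226426191177580544000000 :=
    NotCT.Orders.b hb
  have hf : Finite Cfsg.Spor.BabyMonster := Nat.finite_of_card_ne_zero (by rw [hc]; norm_num)
  refine row_of_pair tab known (r := 47) (s := 7)
    (l := [(2, 41), (3, 13), (5, 6), (7, 2), (11, 1), (13, 1), (17, 1), (19, 1), (23, 1), (31, 1), (47, 1)]) hc
    (by norm_num) (by norm_num) (noOrd_of_noComm (by norm_num) (by norm_num) fun x y hx hy => H478.SporBaby.ncomm hx hy)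
    (by decide +kernel) (not_SC_of_okSC hc (by norm_num) Cfsg.Agent.S2084.result (by decide +kernel)) ?_
  rcases H94.PG.Sp.nr_b hb (r := 7) (by norm_num) (by norm_num) (by decide) with h7 | ⟨-, -, -, x, y, hx, hy, hxy⟩
  · norm_num at h7
  · exact not_SC_of_commute (by norm_num) Nat.prime_two (by norm_num) hx hy hxy

end Cfsg.Agent.H183.Der
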