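import Cfsg.Agent.H183.Der.Eng
import Cfsg.Agent.H393.Iso.McLLy
import Cfsg.Agent.S2076
import Cfsg.Agent.NotCT.Orders
import Cfsg.Agent.H514.OrdSpor

/-!
# S3500, the row Ly (helper183)
-/

set_option autoImplicit false

namespace Cfsg.Agent.H183.Der

open Subgroup
open Cfsg.Agent.OrdDiv Cfsg.Agent.H257.El Cfsg.Agent.H439.Der

universe u

theorem na_ly {p : ℕ} (hp : p.Prime) (h : 11 < p) : H393.Iso.NA p Cfsg.Spor.Ly := by
  have hf : Finite Cfsg.Spor.Ly := Nat.finite_of_card_ne_zero (by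
    rw [NotCT.Orders.ly (K := Cfsg.Spor.Ly) ⟨MulEquiv.refl _⟩]; norm_num)
  obtain ⟨-, -, -, ⟨L⟩⟩ := Cfsg.Agent.TypeM.FactsLy.facts (M := Cfsg.Spor.Ly) ⟨MulEquiv.refl _⟩
  exact H393.Iso.na_of_mt hp (by omega) h L

theorem row_ly_of (tab : OrderTable.{0}) (known : Known.{0}) {T : Type u} [Group T] (h : Cfsg.Spor.IsoLy T) :
    Row T := by
  obtain ⟨e⟩ := h
  refine Row.congr (T := Cfsg.Spor.Ly) e.symm ?_
  have hc : Nat.card Cfsg.Spor.Ly = 51765179004000000 := NotCT.Orders.ly ⟨MulEquiv.refl _⟩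
  have hf : Finite Cfsg.Spor.Ly := Nat.finite_of_card_ne_zero (by rw [hc]; norm_num)
  obtain ⟨g, m, hg⟩ := H514.OC.Spor.ly_eight
  have hm : m ≠ 0 := by
    rintro rfl
    rw [mul_zero] at hg
    exact (orderOf_pos g).ne' hg
  refine row_of_na tab known (r := 67) (s := 37) (k := 2 * m) (t := g)
    (l := [(2, 8), (3, 7), (5, 6), (7, 1), (11, 1), (31, 1), (37, 1), (67, 1)]) hc (by norm_num) (by norm_num)
    (noOrd_of_noComm (by norm_num) Nat.prime_two (na_ly (by norm_num) (by norm_num)))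
    (noOrd_of_noComm (by norm_num) Nat.prime_two (na_ly (by norm_num) (by norm_num)))
    (by decide +kernel) (by norm_num) Cfsg.Agent.S2076.result (by decide +kernel) (by decide +kernel) (by omega)
    (by rw [hg]; ring)

end Cfsg.Agent.H183.Der
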