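import Cfsg.Agent.H183.Der.Eng
import Cfsg.Agent.H393.Iso.Monster
import Cfsg.Agent.S2085
import Cfsg.Agent.NotCT.Orders
import Cfsg.Agent.H514.OrdSpor

/-!
# S3500, the row M (helper183)
-/

set_option autoImplicit false

namespace Cfsg.Agent.H183.Der

open Subgroup
open Cfsg.Agent.OrdDiv Cfsg.Agent.H257.El Cfsg.Agent.H439.Der

universe u

theorem row_m_of (tab : OrderTable.{0}) (known : Known.{0}) {T : Type u} [Group T] (h : Cfsg.Spor.IsoM T) :
    Row T := by
  obtain ⟨e⟩ := h
  refine Row.congr (T := Cfsg.Spor.Monster) e.symm ?_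
  have hc : Nat.card Cfsg.Spor.Monster = 808017424794512875886459904961710757005754368000000000 :=
    NotCT.Orders.m ⟨MulEquiv.refl _⟩
  have hf : Finite Cfsg.Spor.Monster := Nat.finite_of_card_ne_zero (by rw [hc]; norm_num)
  obtain ⟨⟨g, hg⟩, -⟩ := H514.OC.Spor.m_facts
  have hm : Cfsg.Spor.IsoM Cfsg.Spor.Monster := ⟨MulEquiv.refl _⟩
  exact row_of_na tab known (r := 59) (s := 71) (k := 3) (t := g)
    (l := [(2, 46), (3, 20), (5, 9), (7, 6), (11, 2), (13, 3), (17, 1), (19, 1), (23, 1), (29, 1), (31, 1), (41, 1),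
      (47, 1), (59, 1), (71, 1)]) hc (by norm_num) (by norm_num)
    (noOrd_of_noComm (by norm_num) Nat.prime_two (H393.Iso.na_m hm (p := 59) (by simp)))
    (noOrd_of_noComm (by norm_num) Nat.prime_two (H393.Iso.na_m hm (p := 71) (by simp)))
    (by decide +kernel) (by norm_num) Cfsg.Agent.S2085.result (by decide +kernel) (by decide +kernel) (by norm_num)
    hg

end Cfsg.Agent.H183.Der
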