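import Cfsg.Agent.H183.Der.Eng
import Cfsg.Agent.H393.Iso.Base
import Cfsg.Agent.MonsterX.ThOneClass
import Cfsg.Agent.H49.ThFiveDat
import Cfsg.Agent.S2083
import Cfsg.Agent.NotCT.Orders
import Cfsg.Agent.H94.Sp.AC

/-!
# S3500, the row Th (helper183)
-/

set_option autoImplicit false

namespace Cfsg.Agent.H183.Der

open Subgroup
open Cfsg.Agent.OrdDiv Cfsg.Agent.H257.El Cfsg.Agent.H439.Der

universe u

theorem na_th31 [Finite Cfsg.Spor.Th] : H393.Iso.NA 31 Cfsg.Spor.Th := by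
  refine H393.Iso.NA.of_card fun t ht => ?_
  rw [MonsterX.ThOneClass.card_centralizer ht]
  norm_num

theorem th_13_5 (z : Cfsg.Spor.Th) : orderOf z ≠ 13 * 5 := by
  refine noOrd_of_noComm (by norm_num) (by norm_num) (fun x y hx hy hxy => ?_) z
  obtain ⟨hf, x', y', w, a, D⟩ := H49.ThFive.exists_dat
  obtain ⟨g, hg⟩ := D.all hy
  have h1 : g * x * g⁻¹ ∈ centralizer ({w} : Set Cfsg.Spor.Th) := by
    rw [mem_centralizer_singleton_iff, ← hg]
    calc g * x * g⁻¹ * (g * y * g⁻¹) = g * (x * y) * g⁻¹ := by group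
      _ = g * (y * x) * g⁻¹ := by rw [hxy]
      _ = g * y * g⁻¹ * (g * x * g⁻¹) := by group
  have h2 := Subgroup.orderOf_dvd_natCard _ h1
  rw [D.card_C, H439.Der.orderOf_conj, hx] at h2
  norm_num at h2

theorem row_th_of (tab : OrderTable.{0}) (known : Known.{0}) {T : Type u} [Group T] (h : Cfsg.Spor.IsoTh T) :
    Row T := by
  obtain ⟨e⟩ := h
  refine Row.congr (T := Cfsg.Spor.Th) e.symm ?_
  have hth : Cfsg.Spor.IsoTh Cfsg.Spor.Th := ⟨MulEquiv.refl _⟩
  have hc : Nat.card Cfsg.Spor.Th = 90745943887872000 := NotCT.Orders.th hth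
  have hf : Finite Cfsg.Spor.Th := Nat.finite_of_card_ne_zero (by rw [hc]; norm_num)
  intro M hM
  left
  have hMt : M ≠ ⊤ := hM.1
  by_cases h31 : 31 ∣ Nat.card M
  swap
  · exact Two.of_not_dvd h31 (not_SC_of_okSC hc (by norm_num) Cfsg.Agent.S2083.result (by decide +kernel))
  by_cases h13 : 13 ∣ Nat.card M
  swap
  · exact Two.of_not_dvd h13 (not_SC_of_okSC hc (by norm_num) Cfsg.Agent.S2083.result (by decide +kernel))
  by_cases h5 : 5 ∣ Nat.card M
  swap
  · refine Two.of_not_dvd h5 ?_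
    rcases H94.PG.Sp.nr_th hth (r := 5) (by norm_num) (by norm_num) (by decide) with h7 | ⟨-, -, -, x, y, hx, hy, hxy⟩
    · norm_num at h7
    · exact not_SC_of_commute (by norm_num) Nat.prime_two (by norm_num) hx hy hxy
  exact (false_of_pair_na tab known (r := 13) (s := 5) (q := 31)
    (l := [(2, 15), (3, 10), (5, 3), (7, 2), (13, 1), (19, 1), (31, 1)]) hc
    (by norm_num) (by norm_num) (by norm_num) th_13_5 (noOrd_of_noComm (by norm_num) Nat.prime_two na_th31)
    (by decide +kernel) hMt h13 h5 h31).elim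

end Cfsg.Agent.H183.Der
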