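import Cfsg.Agent.H183.Der.RowLy
import Cfsg.Agent.H183.Der.RowTh
import Cfsg.Agent.H183.Der.RowB
import Cfsg.Agent.H183.Der.RowM
import Cfsg.Agent.OrdDiv.Table
import Cfsg.Agent.S0000

/-!
# S3500: the rows Ly, Th, B, M (helper183)
-/

set_option autoImplicit false

namespace Cfsg.Agent.H183.Der

open Cfsg.Agent.OrdDiv Cfsg.Agent.H257.El Cfsg.Agent.H439.Der

universe u

theorem known : Known.{0} := fun _ _ _ _ => Cfsg.Agent.S0000.result

theorem row_ly {T : Type u} [Group T] [Finite T] (h : Cfsg.Spor.IsoLy T) : Row T := row_ly_of table known h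

theorem row_th {T : Type u} [Group T] [Finite T] (h : Cfsg.Spor.IsoTh T) : Row T := row_th_of table known h

theorem row_b {T : Type u} [Group T] [Finite T] (h : Cfsg.Spor.IsoB T) : Row T := row_b_of table known h

theorem row_m {T : Type u} [Group T] [Finite T] (h : Cfsg.Spor.IsoM T) : Row T := row_m_of table known h

end Cfsg.Agent.H183.Der
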